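import Cfsg.Agent.Omega.EDel.ThmUT
import Cfsg.Agent.Omega.EDel.QP
import Cfsg.Agent.Omega.EDel.Bx.Base
import Cfsg.Agent.Omega.KL.FlagNO

/-!
# THEOREM U(q), the `T`-frame (helper848 #24915 (B)): (B1), (B2), (B3)

`T` a 2-group (the kernel of `S` on the lines), `Ω₁Z(T) = ⟨F i⟩`, `D = C_G(Ω₁Z(T))`, `O = O₂(D)`, `P i` a `T`-minimal group
which centralises the `F l`, `l ≠ i`; `Y i = ⟨D, P i⟩`, `N i = ⟨F i^(Y i)⟩`.

* `TF` : the frame;  `XK F K = C_G(F n : n ∉ K)`;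
* `TF.syl_XK`, `TF.syl_Y`, `TF.syl_D` : `T` is Sylow in `D`, `Y i`, `C_G(F n : n ≠ i)`;
* `TF.eab` : (B1), `⟨Ω₁Z(T)^⟨Y i : i ∈ K⟩⟩` is elementary abelian in `O₂(X_K)`, if `O₂(X_K) ≤ T`;
  `o2X_of_wc`, `o2X_of_mv` : two criteria for `O₂(X_K) ≤ T`;
* `TF.no` : (B2), (NO) for flags (helper863);
* `TF.gen` : (B3), `Y i = K D` (helper557's G'', helper164);
* `TF.toFr` : the frame of THEOREM U; **`TF.main`** : (1), (2).
-/

set_option autoImplicit false
set_option linter.unusedSectionVars false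

namespace Cfsg.Agent.Omega.EDel.UQ

open Subgroup Cfsg Cfsg.Agent.ZN.ChoiceBase
open Cfsg.Agent.ZN (zc zl o2)
open Cfsg.Agent.ZN.ChoiceSit (Syl)
open Cfsg.Agent.Omega.NO3S.EThree.ExactA (eab_mono eab_sup eab_iff)
open Cfsg.Agent.Omega.EK3.Rank (NoOn)
open Cfsg.Agent.Omega.ESym.CoreS (EI EI_mono EI_norm Sy)
open Cfsg.Agent.Omega.EDel.ThmU (Fr XF sylow_of_two)
open Cfsg.Agent.Omega.NoFF.Basic (V V_le Z_le_V mem_conj comm_symm comm_mono)
open Cfsg.Agent.MinSimple.MinParabolic (IsMinPar)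
open Cfsg.Agent.MinSimple.VModule (zc_le normalizer_le_normalizer_zc le_normalizer_o2 o2_isPGroup le_o2 o2_le
  le_centralizer_zc o2_le_of_sylow)
open scoped Pointwise

universe u

variable {G : Type u} [Group G]

/-- a 2-subgroup of odd index is a Sylow group -/
theorem syl_of_not_dvd [Finite G] {T X : Subgroup G} (hT : IsPGroup 2 T) (hTX : T ≤ X)
    (h : ¬ 2 ∣ T.relIndex X) : Syl T X := by
  have : Fact (Nat.Prime 2) := ⟨Nat.prime_two⟩
  refine ⟨hTX, hT, fun Q hQX hQ hTQ => ?_⟩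
  have h1 := relIndex_mul_relIndex T Q X hTQ hQX
  have h2 : T.relIndex Q ∣ Nat.card Q := relIndex_dvd_card T Q
  obtain ⟨n, hn⟩ := IsPGroup.iff_card.1 hQ
  rw [hn] at h2
  obtain ⟨m, -, hm⟩ := (Nat.dvd_prime_pow Nat.prime_two).1 h2
  have h3 : m = 0 := by
    by_contra hm0
    apply h
    rw [← h1, hm]
    exact dvd_mul_of_dvd_left (dvd_pow_self 2 hm0) _
  rw [h3, pow_zero] at hm
  exact le_antisymm (relIndex_eq_one.1 hm) hTQ

/-- `C_G(F n : n ∉ K)` -/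
def XK {ι : Type*} (F : ι → Subgroup G) (K : Set ι) : Subgroup G := centralizer {x | ∃ n, n ∉ K ∧ x ∈ F n}

theorem XK_cent {ι : Type*} (F : ι → Subgroup G) {K : Set ι} {n : ι} (hn : n ∉ K) :
    XK F K ≤ centralizer (F n : Set G) := centralizer_le fun _ hx => ⟨n, hn, hx⟩

theorem le_XK {ι : Type*} {F : ι → Subgroup G} {K : Set ι} {H : Subgroup G}
    (h : ∀ n, n ∉ K → H ≤ centralizer (F n : Set G)) : H ≤ XK F K := by
  intro x hx
  rw [XK, mem_centralizer_iff]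
  rintro y ⟨n, hn, hy⟩
  exact mem_centralizer_iff.1 (h n hn hx) y hy

theorem XK_mono {ι : Type*} (F : ι → Subgroup G) {K K' : Set ι} (h : K ⊆ K') : XK F K ≤ XK F K' :=
  le_XK fun _ hn => XK_cent F fun e => hn (h e)

section crit

variable [Finite G] {T : Subgroup G} {ι : Type*} {F : ι → Subgroup G} {K : Set ι}

/-- **criterion 1 for `O₂(X_K) ≤ T`**: a 2-element of `N_G(T)` which moves the line `F i` does not normalise the class of
2-groups: `[t, ρ]` is not a 2-element for some `ρ` which centralises the other lines. -/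
theorem o2X_of_mv (two : IsPGroup 2 T) (hTX : T ≤ XK F K)
    (ker : ∀ g ∈ normalizer (T : Set G), (∃ k : ℕ, g ^ 2 ^ k = 1) → (∀ i, cj g (F i) = F i) → g ∈ T)
    (mv : ∀ g ∈ normalizer (T : Set G), (∃ k : ℕ, g ^ 2 ^ k = 1) → ∀ i, cj g (F i) ≠ F i →
      ∃ ρ ∈ XK F {i}, ¬ ∃ k : ℕ, (g * (ρ * g⁻¹ * ρ⁻¹)) ^ 2 ^ k = 1) : o2 (XK F K) ≤ T := by
  have : Fact (Nat.Prime 2) := ⟨Nat.prime_two⟩
  have hn : T ≤ normalizer (o2 (XK F K) : Set G) := hTX.trans (le_normalizer_o2 _)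
  have h2 : IsPGroup 2 (T ⊔ o2 (XK F K) : Subgroup G) := IsPGroup.to_sup_of_normal_right' two (o2_isPGroup _) hn
  have key : ∀ q ∈ o2 (XK F K), q ∈ normalizer (T : Set G) → q ∈ T := by
    intro q hq hqT
    have hpow : ∀ x ∈ o2 (XK F K), ∃ k : ℕ, x ^ 2 ^ k = 1 := fun x hx => by
      obtain ⟨k, hk⟩ := o2_isPGroup (XK F K) ⟨x, hx⟩
      exact ⟨k, by simpa using congrArg Subtype.val hk⟩
    refine ker q hqT (hpow q hq) fun i => ?_
    by_contra hne
    have hqX : q ∈ XK F K := o2_le _ hq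
    have hi : i ∈ K := by
      by_contra hi
      exact hne (cj_eq_of_mem_normalizer (centralizer_le_normalizer _ (XK_cent F hi hqX)))
    obtain ⟨ρ, hρ, h3⟩ := mv q hqT (hpow q hq) i hne
    have hρX : ρ ∈ XK F K := XK_mono F (Set.singleton_subset_iff.2 hi) hρ
    exact h3 (hpow _ (mul_mem hq ((mem_normalizer_iff.1 (le_normalizer_o2 _ hρX) _).1 (inv_mem hq))))
  have hs : ¬ 2 ∣ T.relIndex (T ⊔ o2 (XK F K)) := by
    refine sylow_of_two two le_sup_left ?_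
    rintro g ⟨hg, hgT⟩ -
    have hg' : g ∈ ((T ⊔ o2 (XK F K) : Subgroup G) : Set G) := hg
    rw [coe_mul_of_left_le_normalizer_right T _ hn] at hg'
    obtain ⟨t, ht, q, hq, rfl⟩ := Set.mem_mul.1 hg'
    refine mul_mem ht (key q hq ?_)
    have h3 := mul_mem (inv_mem (le_normalizer ht)) hgT
    rwa [inv_mul_cancel_left] at h3
  have h4 := (syl_of_not_dvd two le_sup_left hs).2.2 _ le_rfl h2 le_sup_left
  exact le_sup_right.trans h4.le

/-- **criterion 2 for `O₂(X_K) ≤ T`**: `T` is weakly closed in the 2-groups over it. -/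
theorem o2X_of_wc (two : IsPGroup 2 T) (hTX : T ≤ XK F K) (hF : ∀ i, F i ≤ zc T)
    (ker : ∀ g ∈ normalizer (T : Set G), (∃ k : ℕ, g ^ 2 ^ k = 1) → (∀ i, cj g (F i) = F i) → g ∈ T)
    (wc : ∀ Q : Subgroup G, IsPGroup 2 Q → T ≤ Q → Q ≤ normalizer (T : Set G))
    (perm : ∀ g ∈ normalizer (T : Set G), ∀ i, ∃ j, cj g (F i) = F j)
    (rho : ∀ i, ∃ ρ ∈ XK F {i}, ∃ x ∈ F i, ρ * x * ρ⁻¹ ∉ zc T) : o2 (XK F K) ≤ T := by
  have hn : T ≤ normalizer (o2 (XK F K) : Set G) := hTX.trans (le_normalizer_o2 _)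
  have h2 : IsPGroup 2 (T ⊔ o2 (XK F K) : Subgroup G) := IsPGroup.to_sup_of_normal_right' two (o2_isPGroup _) hn
  have hQ : o2 (XK F K) ≤ normalizer (T : Set G) := le_sup_right.trans (wc _ h2 le_sup_left)
  intro t ht
  have hpow : ∃ k : ℕ, t ^ 2 ^ k = 1 := by
    obtain ⟨k, hk⟩ := o2_isPGroup (XK F K) ⟨t, ht⟩
    exact ⟨k, by simpa using congrArg Subtype.val hk⟩
  refine ker t (hQ ht) hpow fun i => ?_
  by_contra hne
  have htX : t ∈ XK F K := o2_le _ ht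
  have hi : i ∈ K := by
    by_contra hi
    exact hne (cj_eq_of_mem_normalizer (centralizer_le_normalizer _ (XK_cent F hi htX)))
  obtain ⟨m, hm⟩ := perm t⁻¹ (inv_mem (hQ ht)) i
  have hmi : m ≠ i := by
    rintro rfl
    apply hne
    have h3 := congrArg (cj t) hm
    rw [cj_cj, mul_inv_cancel, cj_one] at h3
    exact h3.symm
  obtain ⟨ρ, hρ, x, hx, hρx⟩ := rho i
  have hρX : ρ ∈ XK F K := XK_mono F (Set.singleton_subset_iff.2 hi) hρ
  have hg : t * (ρ * t⁻¹ * ρ⁻¹) ∈ o2 (XK F K) :=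
    mul_mem ht ((mem_normalizer_iff.1 (le_normalizer_o2 _ hρX) _).1 (inv_mem ht))
  have hxm : t⁻¹ * x * t ∈ F m := by
    rw [← hm, mem_cj]
    simpa [mul_assoc] using hx
  have hρm : ρ * (t⁻¹ * x * t) = t⁻¹ * x * t * ρ :=
    (mem_centralizer_iff.1 (XK_cent F (by simpa using hmi) hρ) _ hxm).symm
  apply hρx
  refine (mem_normalizer_iff.1 (normalizer_le_normalizer_zc T (hQ hg)) _).2 ?_
  have e : t * (ρ * t⁻¹ * ρ⁻¹) * (ρ * x * ρ⁻¹) * (t * (ρ * t⁻¹ * ρ⁻¹))⁻¹ = x := by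
    calc t * (ρ * t⁻¹ * ρ⁻¹) * (ρ * x * ρ⁻¹) * (t * (ρ * t⁻¹ * ρ⁻¹))⁻¹
        = t * (ρ * (t⁻¹ * x * t) * ρ⁻¹) * t⁻¹ := by group
      _ = t * (t⁻¹ * x * t) * t⁻¹ := by rw [hρm, mul_inv_cancel_right]
      _ = x := by group
  rw [e]
  exact hF i hx

end crit

theorem XF_eq {ι : Type*} (F : ι → Subgroup G) (l m : ι) : XF F l m = XK F {l, m} := by
  unfold XF XK
  congr 1
  ext x
  constructor
  · rintro ⟨n, h1, h2, h3⟩
    exact ⟨n, by simp [h1, h2], h3⟩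
  · rintro ⟨n, h1, h3⟩
    simp only [Set.mem_insert_iff, Set.mem_singleton_iff, not_or] at h1
    exact ⟨n, h1.1, h1.2, h3⟩

/-- `C_G(Ω₁Z(T))` -/
abbrev DT [Finite G] (T : Subgroup G) : Subgroup G := centralizer (zc T : Set G)

/-- `Y i = ⟨D, P i⟩` -/
abbrev YT [Finite G] {ι : Type} (T : Subgroup G) (P : ι → Subgroup G) (i : ι) : Subgroup G := DT T ⊔ P i

/-- `N i = ⟨F i^(Y i)⟩` -/
abbrev NT [Finite G] {ι : Type} (T : Subgroup G) (F P : ι → Subgroup G) (i : ι) : Subgroup G := V (F i) (YT T P i)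

/-- **The `T`-frame of THEOREM U(q).** -/
structure TF [Finite G] (T : Subgroup G) {ι : Type} (F P : ι → Subgroup G) : Prop where
  c2 : IsCharacteristicTwoType G
  two : IsPGroup 2 T
  zcT : zc T = ⨆ i, F i
  ne : ∀ i, F i ≠ ⊥
  inj : Function.Injective F
  three : ∀ i j : ι, ∃ l, l ≠ i ∧ l ≠ j
  par : ∀ i, IsMinPar T (P i)
  cent : ∀ i l, l ≠ i → P i ≤ centralizer (F l : Set G)
  /-- `N_G(T)` permutes the lines and the groups `Y i` -/
  perm : ∀ g ∈ normalizer (T : Set G), ∃ σ : Equiv.Perm ι, ∀ i, cj g (F i) = F (σ i) ∧ cj g (YT T P i) = YT T P (σ i)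
  ker : ∀ g ∈ normalizer (T : Set G), (∃ k : ℕ, g ^ 2 ^ k = 1) → (∀ i, cj g (F i) = F i) → g ∈ T
  /-- see `o2X_of_wc`, `o2X_of_mv` -/
  o2X : ∀ K : Set ι, K ≠ Set.univ → o2 (XK F K) ≤ T

namespace TF

variable [Finite G] {T : Subgroup G} {ι : Type} {F P : ι → Subgroup G} (h : TF T F P)
include h

theorem F_le (i : ι) : F i ≤ zc T := by rw [h.zcT]; exact le_iSup F i

theorem TD : T ≤ DT T := le_centralizer_zc T

theorem TF' (i : ι) : T ≤ centralizer (F i : Set G) := h.TD.trans (centralizer_le (h.F_le i))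

theorem DF (i : ι) : DT T ≤ centralizer (F i : Set G) := centralizer_le (h.F_le i)

theorem mem_D {H : Subgroup G} (hH : ∀ i, H ≤ centralizer (F i : Set G)) : H ≤ DT T := by
  rw [DT, h.zcT]
  exact comm_symm (iSup_le fun i => comm_symm (hH i))

theorem D_le_XK (K : Set ι) : DT T ≤ XK F K := le_XK fun _ _ => h.DF _

theorem T_le_XK (K : Set ι) : T ≤ XK F K := h.TD.trans (h.D_le_XK K)

theorem Y_cent {i l : ι} (hl : l ≠ i) : YT T P i ≤ centralizer (F l : Set G) := sup_le (h.DF l) (h.cent i l hl)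

theorem Y_le_XK {K : Set ι} {i : ι} (hi : i ∈ K) : YT T P i ≤ XK F K :=
  le_XK fun _ hn => h.Y_cent fun e => hn (e ▸ hi)

theorem stab (i : ι) : YT T P i ⊓ centralizer (F i : Set G) = DT T := by
  refine le_antisymm (h.mem_D fun l => ?_) (le_inf le_sup_left (h.DF i))
  by_cases hl : l = i
  · rw [hl]; exact inf_le_right
  · exact inf_le_left.trans (h.Y_cent hl)

/-- an element of `N_G(T)` which centralises all `F n`, `n ≠ i`, fixes all lines -/
theorem fix_of {i : ι} {g : G} (hg : g ∈ XK F {i}) (hgT : g ∈ normalizer (T : Set G)) (j : ι) :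
    cj g (F j) = F j := by
  obtain ⟨σ, hσ⟩ := h.perm g hgT
  have h1 : ∀ n, n ≠ i → σ n = n := by
    intro n hn
    apply h.inj
    rw [← (hσ n).1]
    exact cj_eq_of_mem_normalizer (centralizer_le_normalizer _ (XK_cent F (by simpa using hn) hg))
  have h2 : σ i = i := by
    by_contra hne
    exact hne (σ.injective (h1 _ hne))
  by_cases hj : j = i
  · rw [hj, (hσ i).1, h2]
  · rw [(hσ j).1, h1 j hj]

theorem syl_XK (i : ι) : ¬ 2 ∣ T.relIndex (XK F {i}) :=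
  sylow_of_two h.two (h.T_le_XK _) fun g hg h2 => h.ker g hg.2 h2 (h.fix_of hg.1 hg.2)

theorem syl_sub {i : ι} {R : Subgroup G} (hT : T ≤ R) (hR : R ≤ XK F {i}) : ¬ 2 ∣ T.relIndex R := fun h1 => by
  apply h.syl_XK i
  rw [← relIndex_mul_relIndex T R (XK F {i}) hT hR]
  exact h1.mul_right _

theorem syl_Y (i : ι) : ¬ 2 ∣ T.relIndex (YT T P i) := h.syl_sub (h.TD.trans le_sup_left) (h.Y_le_XK rfl)

theorem ne_univ (i : ι) : ({i} : Set ι) ≠ Set.univ := by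
  obtain ⟨l, hl, -⟩ := h.three i i
  intro e
  have h1 : l ∈ ({i} : Set ι) := e ▸ Set.mem_univ l
  exact hl h1

theorem syl_D (i : ι) : ¬ 2 ∣ T.relIndex (DT T) := h.syl_sub (i := i) h.TD (h.D_le_XK _)

theorem Syl_D (i : ι) : Syl T (DT T) := syl_of_not_dvd h.two h.TD (h.syl_D i)

/-! ### `O₂(X_K)` -/

variable {K : Set ι} (hK : K ≠ Set.univ)
include hK

theorem char2_XK : XK F K ⊓ centralizer (o2 (XK F K) : Set G) ≤ o2 (XK F K) := by
  have e : XK F K = centralizer ((closure {x | ∃ n, n ∉ K ∧ x ∈ F n} : Subgroup G) : Set G) :=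
    (centralizer_closure _).symm
  have hle : closure {x | ∃ n, n ∉ K ∧ x ∈ F n} ≤ zc T := by
    rw [closure_le]
    rintro x ⟨n, -, hx⟩
    exact h.F_le n hx
  rw [e]
  refine NOne.LemmaT.char2_centralizer h.c2 (h.two.to_le (hle.trans (zc_le T))) ?_
  obtain ⟨n, hn⟩ := (Set.ne_univ_iff_exists_notMem K).1 hK
  intro e1
  apply h.ne n
  rw [eq_bot_iff, ← e1]
  exact fun x hx => subset_closure ⟨n, hn, hx⟩

theorem o2X_le_D : o2 (XK F K) ≤ DT T := (h.o2X K hK).trans h.TD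

/-- `O₂(X_K) ≤ O₂(R)` for `D ≤ R ≤ X_K` -/
theorem o2X_le_of_le {R : Subgroup G} (h1 : DT T ≤ R) (h2 : R ≤ XK F K) : o2 (XK F K) ≤ o2 R :=
  le_o2 ((h.o2X_le_D hK).trans h1) (o2_isPGroup _) (h2.trans (le_normalizer_o2 _))

theorem Z_le_zc : zc T ≤ zc (o2 (XK F K)) := by
  have h1 : zc T ≤ centralizer (o2 (XK F K) : Set G) := comm_symm (h.o2X_le_D hK)
  intro x hx
  have h2 : x ∈ XK F K := h.T_le_XK K (zc_le T hx)
  exact mem_zc.2 ⟨h.char2_XK hK ⟨h2, h1 hx⟩, (mem_zc.1 hx).2.1, fun y hy => mem_centralizer_iff.1 (h1 hx) y hy⟩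

theorem E_le_zc : EI (zc T) (YT T P) K ≤ zc (o2 (XK F K)) := by
  have hXn : XK F K ≤ normalizer (zc (o2 (XK F K)) : Set G) :=
    (le_normalizer_o2 _).trans (normalizer_le_normalizer_zc _)
  refine iSup_le fun y => ?_
  have hy : (y : G) ∈ XK F K := (iSup_le fun i : K => h.Y_le_XK i.2 : (⨆ i : K, YT T P i) ≤ XK F K) y.2
  have h1 := cj_mono (y : G) (h.Z_le_zc hK)
  rwa [cj_eq_of_mem_normalizer (hXn hy)] at h1

theorem E_le_o2X : EI (zc T) (YT T P) K ≤ o2 (XK F K) := (h.E_le_zc hK).trans (zc_le _)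

theorem E_le_o2 {R : Subgroup G} (h1 : DT T ≤ R) (h2 : R ≤ XK F K) : EI (zc T) (YT T P) K ≤ o2 R :=
  (h.E_le_o2X hK).trans (h.o2X_le_of_le hK h1 h2)

/-- **(B1)** -/
theorem eab : IsElementaryAbelian 2 (EI (zc T) (YT T P) K : Subgroup G) ∧ EI (zc T) (YT T P) K ≤ o2 (DT T) := by
  refine ⟨eab_iff.2 ⟨?_, fun x hx => (mem_zc.1 (h.E_le_zc hK hx)).2.1⟩, h.E_le_o2 hK le_rfl (h.D_le_XK K)⟩
  intro x hx
  rw [mem_centralizer_iff]
  intro y hy
  exact (mem_zc.1 (h.E_le_zc hK hx)).2.2 y (h.E_le_o2X hK hy)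

omit hK

/-! ### `N i` -/

omit h in
theorem Y_norm_N (i : ι) : YT T P i ≤ normalizer (NT T F P i : Set G) := KL.FlagNO.le_normalizer_V' _ _

omit h in
theorem F_le_N (i : ι) : F i ≤ NT T F P i := KL.FlagNO.le_V' _ _

theorem N_le_E {K : Set ι} {i : ι} (hi : i ∈ K) : NT T F P i ≤ EI (zc T) (YT T P) K := by
  refine KL.FlagNO.V_le_elem fun g hg z hz => ?_
  have h1 : g ∈ (⨆ i : K, YT T P i : Subgroup G) := (le_iSup (fun i : K => YT T P i) ⟨i, hi⟩ : _ ≤ _) hg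
  exact (le_iSup (fun y : (⨆ i : K, YT T P i : Subgroup G) => cj (y : G) (zc T)) ⟨g, h1⟩ : _ ≤ _)
    ⟨z, h.F_le i hz, rfl⟩

theorem O_le_Y (i : ι) : o2 (DT T) ≤ YT T P i := (o2_le _).trans le_sup_left

theorem N_el (i : ι) : IsElementaryAbelian 2 (NT T F P i : Subgroup G) :=
  eab_mono (h.eab (h.ne_univ i)).1 (h.N_le_E rfl)

/-- `C_{Y_i}(N_i) ≤ D` -/
theorem cent_N_le (i : ι) : YT T P i ⊓ centralizer (NT T F P i : Set G) ≤ DT T := by
  rw [← h.stab i]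
  exact inf_le_inf_left _ (centralizer_le (F_le_N i))

theorem Y_norm_cN (i : ι) :
    YT T P i ≤ normalizer ((YT T P i ⊓ centralizer (NT T F P i : Set G) : Subgroup G) : Set G) := by
  intro g hg
  rw [mem_normalizer_iff_cj, cj_inf, cj_centralizer, cj_eq_of_mem_normalizer (Y_norm_N i hg),
    cj_eq_of_mem_normalizer (Subgroup.le_normalizer hg)]

theorem o2Y_le_T (i : ι) : o2 (YT T P i) ≤ T := o2_le_of_sylow h.two (h.syl_Y i)

theorem o2Y_le_O (i : ι) : o2 (YT T P i) ≤ o2 (DT T) :=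
  le_o2 ((h.o2Y_le_T i).trans h.TD) (o2_isPGroup _) ((le_sup_left : DT T ≤ _).trans (le_normalizer_o2 _))

/-- **`O₂(Y_i) = C_O(N_i)`** -/
theorem Q_eq (i : ι) : o2 (YT T P i) = o2 (DT T) ⊓ centralizer (NT T F P i : Set G) := by
  apply le_antisymm
  · refine le_inf (h.o2Y_le_O i) ?_
    exact KL.FlagNO.o2_cent h.two (h.syl_Y i) (h.TF' i)
  · set X := YT T P i ⊓ centralizer (NT T F P i : Set G) with hX
    have h1 : o2 (DT T) ⊓ centralizer (NT T F P i : Set G) ≤ o2 X := by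
      refine le_o2 (le_inf (inf_le_left.trans (h.O_le_Y i)) inf_le_right) ((o2_isPGroup _).to_le inf_le_left) ?_
      intro x hx
      have hxD : x ∈ normalizer (o2 (DT T) : Set G) := le_normalizer_o2 _ (h.cent_N_le i hx)
      have hxN : x ∈ normalizer (NT T F P i : Set G) := Y_norm_N i hx.1
      rw [mem_normalizer_iff_cj, cj_inf, cj_centralizer, cj_eq_of_mem_normalizer hxD,
        cj_eq_of_mem_normalizer hxN]
    refine h1.trans (le_o2 ((o2_le _).trans inf_le_left) (o2_isPGroup _) ?_)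
    refine (h.Y_norm_cN i).trans ?_
    exact normalizer_le_of_cj (F := o2) (fun g T => Cfsg.Agent.ZN.ChoiceSit.o2_cj g T) X

/-- **(B2)**: no elementary abelian subgroup of `O` is an over-offender on `N i` -/
theorem no (ml : ML.Final.MLK.{u, u}) (i : ι) (kg : IsKGroup (YT T P i)) : NoOn (o2 (DT T)) (NT T F P i) := by
  intro A hA hAO
  refine KL.FlagNO.flag_no ml h.two (h.TD.trans le_sup_left) (h.syl_Y i) (h.TF' i) kg
    (eab_iff.1 (h.N_el i)).2 ?_ (eab_iff.1 hA).2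
  rw [h.stab i]
  exact hAO

/-- `P j ≤ K D` if `P j` does not normalise `T ∩ K` -/
theorem P_le (j : ι) {K : Subgroup G} (hPK : P j ≤ normalizer (K : Set G))
    (hm : ¬ P j ≤ normalizer ((T ⊓ K : Subgroup G) : Set G)) : P j ≤ K ⊔ DT T := by
  have hsP : ¬ 2 ∣ T.relIndex (P j) :=
    h.syl_sub (i := j) (h.par j).le ((le_sup_right : P j ≤ YT T P j).trans (h.Y_le_XK (Set.mem_singleton j)))
  have hPn : P j ≤ normalizer ((K ⊓ P j : Subgroup G) : Set G) := by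
    intro g hg
    rw [mem_normalizer_iff_cj, cj_inf, cj_eq_of_mem_normalizer (hPK hg),
      cj_eq_of_mem_normalizer (Subgroup.le_normalizer hg)]
  rcases (h.par j).sup_eq_or_inf_le h.two hsP inf_le_right hPn with h1 | h1
  · rw [← h1]
    exact sup_le (inf_le_left.trans le_sup_left) (h.TD.trans le_sup_right)
  · exfalso
    apply hm
    have h2 : o2 (P j) ≤ T := o2_le_of_sylow h.two hsP
    have h3 : (T ⊓ K : Subgroup G) = o2 (P j) ⊓ K := by
      apply le_antisymm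
      · refine le_inf (le_trans ?_ h1) inf_le_right
        exact le_inf inf_le_left (le_inf inf_le_right (inf_le_left.trans (h.par j).le))
      · exact inf_le_inf_right _ h2
    rw [h3]
    intro g hg
    rw [mem_normalizer_iff_cj, cj_inf, cj_eq_of_mem_normalizer (le_normalizer_o2 _ hg),
      cj_eq_of_mem_normalizer (hPK hg)]

/-- **(B3)** -/
theorem gen (j : ι) (K : Subgroup G) (hK : K ≤ YT T P j) (hn : YT T P j ≤ normalizer (K : Set G))
    (hc : ¬ K ⊓ o2 (DT T) ≤ centralizer (NT T F P j : Set G)) : YT T P j ≤ K ⊔ DT T := by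
  have hE := h.eab (h.ne_univ j)
  set W : Subgroup G := EI (zc T) (YT T P) {j} with hW
  have hWT : W ≤ T := (h.E_le_o2X (h.ne_univ j)).trans (h.o2X _ (h.ne_univ j))
  have hWn : YT T P j ≤ normalizer (W : Set G) := EI_norm (ZJ := zc T) (Y := YT T P) (Set.mem_singleton j)
  have hZW : zc T ≤ W := by
    have h1 := le_iSup (fun y : (⨆ i : ({j} : Set ι), YT T P i : Subgroup G) => cj (y : G) (zc T)) 1
    simp only [OneMemClass.coe_one, cj_one] at h1
    exact h1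
  obtain ⟨y, hy, hyc⟩ : ∃ y ∈ YT T P j, ¬ K ⊓ o2 (DT T) ≤ centralizer (cj y (zc T) : Set G) := by
    by_contra hcon
    push Not at hcon
    apply hc
    refine comm_symm (KL.FlagNO.V_le_elem fun g hg z hz => ?_)
    exact comm_symm (hcon g hg) ⟨z, h.F_le j hz, rfl⟩
  have hWc : ∀ x ∈ W, ∀ y ∈ W, x * y = y * x := fun x hx y hy =>
    mem_centralizer_iff.1 ((eab_iff.1 hE.1).1 hy) x hx
  have hW2 : ∀ x ∈ W, x * x = 1 := fun x hx => by rw [← pow_two]; exact (eab_iff.1 hE.1).2 x hx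
  have hCW : W ⊓ centralizer (T : Set G) ≤ zc T := fun x hx =>
    mem_zc.2 ⟨hWT hx.1, (eab_iff.1 hE.1).2 x hx.1, fun y hy => mem_centralizer_iff.1 hx.2 y hy⟩
  have hm := QP.moves_of (B := T) (D := DT T) (L := P j) (W := W) (K := K) (Z := zc T)
    (h.Syl_D j) le_rfl hWT hWc hW2 hWn hZW hCW hK hn inf_le_right (F := K ⊓ o2 (DT T))
    (inf_le_inf_left _ (o2_le _)) hy hyc
  exact sup_le le_sup_right (h.P_le j ((le_sup_right : P j ≤ YT T P j).trans hn) hm)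

/-- `Z^y ≤ N_i Z` for `y ∈ Y_i` -/
theorem ZN (i : ι) (y : G) (hy : y ∈ YT T P i) : cj y (zc T) ≤ NT T F P i ⊔ zc T := by
  have e : cj y (zc T) = ⨆ l, cj y (F l) := by
    conv_lhs => rw [h.zcT]
    rw [cj, Subgroup.map_iSup]
  rw [e]
  refine iSup_le fun l => ?_
  by_cases hl : l = i
  · subst hl
    have h1 := cj_mono y (F_le_N (T := T) (F := F) (P := P) l)
    rw [cj_eq_of_mem_normalizer (Y_norm_N l hy)] at h1
    exact h1.trans le_sup_left
  · rw [cj_eq_of_mem_normalizer (centralizer_le_normalizer _ (h.Y_cent hl hy))]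
    exact (h.F_le l).trans le_sup_right

/-- **The frame of THEOREM U.** -/
theorem toFr (ml : ML.Final.MLK.{u, u}) (kg : ∀ i, IsKGroup (YT T P i)) :
    Fr (o2 (DT T)) (DT T) (zc T) (YT T P) (NT T F P) where
  two := o2_isPGroup _
  OY := h.O_le_Y
  OZ := o2_le _
  DY := fun _ => le_sup_left
  three := h.three
  eab := fun K hK => h.eab hK
  NE := fun _ => h.N_le_E rfl
  YN := fun i => Y_norm_N i
  YQ := fun i => by
    rw [← h.Q_eq i]
    exact le_normalizer_o2 _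
  no := fun i => h.no ml i (kg i)
  gen := h.gen
  ZN := h.ZN

/-! ### `N_G(T)` -/

/-- `N_G(T)` acts on `(F i)`, `(Y i)`, `(N i)` and normalises `O` -/
theorem symm {g : G} (hg : g ∈ normalizer (T : Set G)) :
    ∃ σ : Equiv.Perm ι, Sy (o2 (DT T)) (YT T P) (NT T F P) g σ ∧ ∀ i, cj g (F i) = F (σ i) := by
  obtain ⟨σ, hσ⟩ := h.perm g hg
  have hz : cj g (zc T) = zc T := cj_eq_of_mem_normalizer (normalizer_le_normalizer_zc T hg)
  have hD : cj g (DT T) = DT T := by rw [cj_centralizer, hz]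
  refine ⟨σ, ⟨?_, fun l => (hσ l).2, fun l => ?_⟩, fun i => (hσ i).1⟩
  · exact cj_eq_of_mem_normalizer
      (Cfsg.Agent.Omega.normalizer_le_normalizer_o2' _ (mem_normalizer_iff_cj.2 hD))
  · -- `N`
    have key : ∀ {g : G} {i j : ι}, cj g (F i) = F j → cj g (YT T P i) = YT T P j →
        NT T F P j ≤ cj g (NT T F P i) := by
      intro g i j h1 h2
      refine KL.FlagNO.V_le_of_norm (by rw [← h1]; exact cj_mono g (F_le_N i)) fun y hy => ?_
      rw [← h2, mem_cj] at hy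
      have h3 := mem_normalizer_iff_cj.1 (Y_norm_N (T := T) (F := F) (P := P) i hy)
      rw [mem_normalizer_iff_cj]
      have h4 : cj y (cj g (NT T F P i)) = cj g (cj (g⁻¹ * y * g) (NT T F P i)) := by
        rw [cj_cj, cj_cj]
        congr 1
        group
      rw [h4, h3]
    apply le_antisymm
    · have h1 : cj g⁻¹ (F (σ l)) = F l := by rw [← (hσ l).1, cj_inv_cj]
      have h2 : cj g⁻¹ (YT T P (σ l)) = YT T P l := by rw [← (hσ l).2, cj_inv_cj]
      have h3 := cj_mono g (key h1 h2)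
      rwa [cj_cj, mul_inv_cancel, cj_one] at h3
    · exact key (hσ l).1 (hσ l).2

theorem O_ne (i : ι) : o2 (DT T) ≠ ⊥ := by
  intro e
  apply h.ne i
  rw [eq_bot_iff, ← e]
  exact ((F_le_N i).trans (h.N_le_E (K := {i}) rfl)).trans (h.eab (h.ne_univ i)).2

/-- **THEOREM U(q), (1) and (2)** over the `T`-frame. -/
theorem main [Finite ι] [Nonempty ι] (ml : ML.Final.MLK.{u, u}) (kg : ∀ i, IsKGroup (YT T P i))
    (nl : ∀ R : Subgroup G, R ≠ ⊥ → IsPGroup 2 R → ¬ ∀ j, YT T P j ≤ normalizer (R : Set G)) :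
    ∃ A ∈ AA (o2 (DT T)), (∀ i, A ≤ o2 (YT T P i)) ∧ ∃ l m, l ≠ m ∧
      ¬ A ≤ centralizer (EI (zc T) (YT T P) {l, m} : Set G) ∧ ¬ 2 ∣ T.relIndex (XK F {l, m}) ∧
      ∀ g ∈ XK F {l, m} ⊓ normalizer (T : Set G), ∀ i, cj g (F i) = F i := by
  obtain ⟨i⟩ := ‹Nonempty ι›
  obtain ⟨A, hA, hc, l, m, hlm, hm, hs, hf⟩ := (h.toFr ml kg).mainT (h.O_ne i) nl h.two h.inj h.TF'
    (fun g hg => h.symm hg) h.ker
  rw [XF_eq] at hs hf
  refine ⟨A, hA, fun j => ?_, l, m, hlm, hm, hs, hf⟩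
  rw [h.Q_eq j]
  exact le_inf hA.2.1 (hc j)

end TF

end Cfsg.Agent.Omega.EDel.UQ
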